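import Cfsg.Agent.Lib.Leech.Cert
import Cfsg.Agent.Lib.PermComp.Core

/-!
# Finite orbits of vectors under a stabiliser in `Co0`, numbered by a chunk

The group `FixG R` acts on the vectors of a class, and a chunk numbers the class: this gives a homomorphism
to the permutations of `Fin n`, and the codes of elements given by words are checked point by point.
-/

set_option autoImplicit false

namespace Cfsg.Agent.Lib.LeechP

open Cfsg Cfsg.Agent.Lib.Golay.Core Cfsg.Agent.Lib.Leech.Basic Cfsg.Agent.Lib.Leech.Lat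
  Cfsg.Agent.Lib.Leech.Vec Cfsg.Agent.Lib.Leech.Reach Cfsg.Agent.Lib.Leech.Word
  Cfsg.Agent.Lib.Leech.Cert Cfsg.Agent.Lib.Leech.Packed Cfsg.Agent.Lib.PermComp.Core

/-- The hypotheses: the list `ch` numbers the class. -/
structure Num (R : List ℕ) (conds : List (ℕ × ℕ × ℕ)) (ch n : ℕ) : Prop where
  hR : ∀ c ∈ conds, c.1 ∈ R ∧ dec c.1 ∈ leechLattice
  mem : ∀ i < n, Cl 32 conds (dec (xOf ch i))
  inj : ∀ i < n, ∀ j < n, xOf ch i = xOf ch j → i = j
  cov : ∀ w, Cl 32 conds w → ∃ i < n, dec (xOf ch i) = w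

variable {R : List ℕ} {conds : List (ℕ × ℕ × ℕ)} {ch n : ℕ}

/-- The class, as a set of lattice vectors. -/
abbrev XX (conds : List (ℕ × ℕ × ℕ)) : Type :=
  {w : L // Cl 32 conds (w : GolayPt → ℤ)}

/-- The numbering. -/
noncomputable def Num.equiv (h : Num R conds ch n) : Fin n ≃ XX conds :=
  Equiv.ofBijective
    (fun i => ⟨⟨dec (xOf ch i), (h.mem i i.2).1⟩, h.mem i i.2⟩)
    (by
      constructor
      · intro i j hij
        have h1 : dec (xOf ch i) = dec (xOf ch j) := congrArg (fun x : XX conds => (x.1 : GolayPt → ℤ)) hij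
        exact Fin.ext (h.inj i i.2 j j.2 (dec_inj (xOf_lt _ _) (xOf_lt _ _) h1))
      · rintro ⟨w, hw⟩
        obtain ⟨i, hi, h1⟩ := h.cov _ hw
        exact ⟨⟨i, hi⟩, Subtype.ext (Subtype.ext h1)⟩)

theorem Num.equiv_coe (h : Num R conds ch n) (i : Fin n) :
    (((h.equiv i).1 : L) : GolayPt → ℤ) = dec (xOf ch i) := rfl

theorem Num.smul_mem (h : Num R conds ch n) (g : FixG R) (w : XX conds) :
    Cl 32 conds (((g.1 • w.1 : L)) : GolayPt → ℤ) :=
  Cl_of_rel h.hR ⟨w.1.2, g.1, g.2, rfl⟩ w.2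

/-- The action on the class. -/
noncomputable def Num.act (h : Num R conds ch n) : FixG R →* Equiv.Perm (XX conds) where
  toFun g :=
    { toFun := fun w => ⟨g.1 • w.1, h.smul_mem g w⟩
      invFun := fun w => ⟨g.1⁻¹ • w.1, h.smul_mem g⁻¹ w⟩
      left_inv := fun w => Subtype.ext (inv_smul_smul _ _)
      right_inv := fun w => Subtype.ext (smul_inv_smul _ _) }
  map_one' := by
    ext w
    simp
  map_mul' a b := by
    ext w
    simp [mul_smul]

/-- The homomorphism to the permutations of the numbers. -/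
noncomputable def Num.phi (h : Num R conds ch n) : FixG R →* Equiv.Perm (Fin n) :=
  (Equiv.permCongrHom h.equiv.symm).toMonoidHom.comp h.act

theorem Num.phi_spec (h : Num R conds ch n) (g : FixG R) (i : Fin n) :
    (g.1 • (h.equiv i).1 : L) = (h.equiv (h.phi g i)).1 := by
  have : h.equiv (h.phi g i) = h.act g (h.equiv i) := by
    simp [Num.phi, Equiv.permCongrHom]
  rw [this]
  rfl

/-- The image of a vector is read off the chunk. -/
theorem Num.phi_eq (h : Num R conds ch n) {g : FixG R} {i j : Fin n}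
    (hij : ((g.1 • (h.equiv i).1 : L) : GolayPt → ℤ) = dec (xOf ch j)) : h.phi g i = j := by
  have h1 := h.phi_spec g i
  have h2 : (((h.equiv (h.phi g i)).1 : L) : GolayPt → ℤ) = dec (xOf ch j) := by
    rw [← h1]
    exact hij
  rw [Num.equiv_coe] at h2
  exact Fin.ext (h.inj _ (h.phi g i).2 _ j.2 (dec_inj (xOf_lt _ _) (xOf_lt _ _) h2))

/-- The code of an element of the group given by a word, checked on all points. -/
def wordOK (ch n w mask c : ℕ) (u : List (ℕ × ℕ)) : Bool :=
  allUpTo (fun i => forceN (app w mask c i) fun j => Nat.blt j n && runW u (xOf ch i) (xOf ch j)) n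

/-- The code of an element given by a valid signed permutation. -/
def monOKs (ch n w mask c P d : ℕ) : Bool :=
  allUpTo (fun i => forceN (app w mask c i) fun j => Nat.blt j n && monCheck P d (xOf ch i) (xOf ch j)) n

theorem Num.rep_word (h : Num R conds ch n) {w mask c : ℕ} {u : List (ℕ × ℕ)}
    (hu : wG u ∈ FixG R) (hc : wordOK ch n w mask c u = true) :
    Rep w mask (Equiv.refl (Fin n)) c (h.phi ⟨wG u, hu⟩) := by
  intro i
  have h1 := allUpTo_iff.1 hc i i.2
  rw [forceN_eq] at h1
  simp only [Bool.and_eq_true] at h1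
  obtain ⟨h2, h3⟩ := h1
  have hj : app w mask c i < n := by simpa using h2
  have h4 := wG_smul u h3 (h.mem i i.2).1
  have := h.phi_eq (g := ⟨wG u, hu⟩) (i := i) (j := ⟨app w mask c i, hj⟩) h4
  show app w mask c i = ((h.phi ⟨wG u, hu⟩ i : Fin n) : ℕ)
  rw [this]

theorem Num.rep_mon (h : Num R conds ch n) {w mask c P d : ℕ}
    (hv : validOp P d = true) (hu : opG (P, d) ∈ FixG R) (hc : monOKs ch n w mask c P d = true) :
    Rep w mask (Equiv.refl (Fin n)) c (h.phi ⟨opG (P, d), hu⟩) := by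
  intro i
  have h1 := allUpTo_iff.1 hc i i.2
  rw [forceN_eq] at h1
  simp only [Bool.and_eq_true] at h1
  obtain ⟨h2, h3⟩ := h1
  have hj : app w mask c i < n := by simpa using h2
  have h4 := opG_of_valid hv h3 (h.mem i i.2).1
  have := h.phi_eq (g := ⟨opG (P, d), hu⟩) (i := i) (j := ⟨app w mask c i, hj⟩) h4
  show app w mask c i = ((h.phi ⟨opG (P, d), hu⟩ i : Fin n) : ℕ)
  rw [this]

end Cfsg.Agent.Lib.LeechP
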