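import Cfsg.Agent.Lib.LeechP.Act
import Cfsg.Agent.Lib.Leech.SimpleMcL
import Cfsg.Agent.Lib.Leech.SimpleHS
import Cfsg.Prelude.Def_Spor_Conway

/-!
# The groups `McL` and `HS` as groups of permutations of vectors
-/

set_option autoImplicit false

namespace Cfsg.Agent.Lib.LeechP

open Cfsg Cfsg.Agent.Lib.Golay.Core Cfsg.Agent.Lib.Leech.Basic Cfsg.Agent.Lib.Leech.Lat
  Cfsg.Agent.Lib.Leech.Vec Cfsg.Agent.Lib.Leech.Reach Cfsg.Agent.Lib.Leech.Word
  Cfsg.Agent.Lib.Leech.Cert Cfsg.Agent.Lib.Leech.Packed Cfsg.Agent.Lib.PermComp.Core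
  Cfsg.Agent.Lib.Leech.ConfigB

/-- A class numbered by a chunk from the data of a certificate. -/
theorem Num.of_chunk {R : List ℕ} {conds : List (ℕ × ℕ × ℕ)} {e : Chunk} {root tab NT : ℕ}
    {words : List (List (ℕ × ℕ))}
    (hR : ∀ c ∈ conds, c.1 ∈ R ∧ dec c.1 ∈ leechLattice)
    (he : chunkB (pointB (classB 32 conds) root tab NT words) e = true)
    (hcov : ∀ w, Cl 32 conds w → ∃ x ∈ unionL [e], dec x = w) : Num R conds e.1 e.2.1 := by
  refine ⟨hR, fun i hi => ?_, fun i hi j hj hij => ?_, fun w hw => ?_⟩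
  · have h1 := (chunk_parts he).1 i hi
    simp only [pointB, Bool.and_eq_true] at h1
    exact classB_iff.1 h1.1
  · exact chunk_inj he (Finset.mem_coe.2 (Finset.mem_range.2 hi)) (Finset.mem_coe.2 (Finset.mem_range.2 hj)) hij
  · obtain ⟨x, hx, rfl⟩ := hcov w hw
    have hx' : x ∈ elems e := by
      simpa [unionL] using hx
    obtain ⟨i, hi, rfl⟩ := Finset.mem_image.1 hx'
    exact ⟨i, Finset.mem_range.1 hi, rfl⟩

/-- Conjugation by `t` identifies a group of permutations with a subgroup of `Co0`. -/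
theorem conj_equiv {A : Subgroup (Equiv.Perm L)} {B : Subgroup Co0} (t : Co0) (h1 : A ≤ Co0)
    (h2 : ∀ g : Co0, (g : Equiv.Perm L) ∈ A ↔ t * g * t⁻¹ ∈ B) : Nonempty (A ≃* B) := by
  refine ⟨{ toFun := fun a => ⟨t * ⟨a.1, h1 a.2⟩ * t⁻¹, (h2 _).1 a.2⟩
            invFun := fun b => ⟨((t⁻¹ * b.1 * t : Co0) : Equiv.Perm L), (h2 _).2 ?_⟩
            left_inv := fun a => ?_
            right_inv := fun b => ?_
            map_mul' := fun a b => ?_ }⟩
  · have : t * (t⁻¹ * b.1 * t) * t⁻¹ = b.1 := by group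
    rw [this]
    exact b.2
  · apply Subtype.ext
    have : t⁻¹ * (t * ⟨a.1, h1 a.2⟩ * t⁻¹) * t = ⟨a.1, h1 a.2⟩ := by group
    simp only [this]
  · apply Subtype.ext
    show t * (t⁻¹ * b.1 * t) * t⁻¹ = b.1
    group
  · apply Subtype.ext
    show t * ((⟨a.1, h1 a.2⟩ : Co0) * ⟨b.1, h1 b.2⟩) * t⁻¹ =
      (t * ⟨a.1, h1 a.2⟩ * t⁻¹) * (t * ⟨b.1, h1 b.2⟩ * t⁻¹)
    group

/-- What fixing a packed vector means through `t`. -/
theorem conj_fix_iff {t : Co0} {l : List (L × ℕ)} (ht : Maps t l) {p : L × ℕ} (hp : p ∈ l) (g : Co0)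
    (hr : dec p.2 ∈ leechLattice) :
    (t * g * t⁻¹) • (⟨dec p.2, hr⟩ : L) = ⟨dec p.2, hr⟩ ↔ g • p.1 = p.1 := by
  have h1 : (⟨dec p.2, hr⟩ : L) = t • p.1 := (ht.eq hp).symm
  rw [h1, mul_smul, mul_smul, inv_smul_smul]
  constructor
  · intro h
    exact smul_left_cancel t h
  · intro h
    rw [h]

/-- Membership in the stabiliser of two packed vectors. -/
theorem mem_FixG_two {t : Co0} {x y : L} {m n : ℕ} (ht : Maps t [(x, m), (y, n)]) (g : Co0) :
    t * g * t⁻¹ ∈ FixG [n, m] ↔ g • x = x ∧ g • y = y := by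
  constructor
  · intro h
    have hm : (x, m) ∈ [(x, m), (y, n)] := by simp
    have hn : (y, n) ∈ [(x, m), (y, n)] := by simp
    exact ⟨(conj_fix_iff ht hm g (ht.mem hm)).1 (h m (by simp) _),
      (conj_fix_iff ht hn g (ht.mem hn)).1 (h n (by simp) _)⟩
  · rintro ⟨h1, h2⟩ r hr hr'
    simp only [List.mem_cons, List.not_mem_nil, or_false] at hr
    rcases hr with rfl | rfl
    · exact (conj_fix_iff ht (p := (y, r)) (by simp) g hr').2 h2
    · exact (conj_fix_iff ht (p := (x, r)) (by simp) g hr').2 h1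

end Cfsg.Agent.Lib.LeechP
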