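import Cfsg.Agent.Lib.LeechP.Base
import Cfsg.Agent.Lib.Leech.CertC275

/-!
# `McL` on 275 points
-/

set_option autoImplicit false

namespace Cfsg.Agent.Lib.LeechP.McL

open Cfsg Cfsg.Agent.Lib.Golay.Core Cfsg.Agent.Lib.Leech.Basic Cfsg.Agent.Lib.Leech.Lat
  Cfsg.Agent.Lib.Leech.Vec Cfsg.Agent.Lib.Leech.Reach Cfsg.Agent.Lib.Leech.Word
  Cfsg.Agent.Lib.Leech.Cert Cfsg.Agent.Lib.Leech.Packed Cfsg.Agent.Lib.PermComp.Core
  Cfsg.Agent.Lib.Leech.ConfigB Cfsg.Agent.Lib.Leech.ConfigM Cfsg.Agent.Lib.Leech.CertC275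

/-- The numbering of the 275 vectors. -/
theorem num : Num R conds e0.1 275 :=
  Num.of_chunk (root := root) (tab := tab) (NT := NT) (words := words) hR ok0 cover

/-- The vector `-(-5, -1²³)`. -/
abbrev uu : L := -Spor.leechV

theorem sq_u : sqNorm (uu : GolayPt → ℤ) = 48 := by
  show sqNorm (-Spor.vecV) = 48
  decide

theorem v_mem : Spor.leechU ∈ Xu uu := by
  constructor
  · show sqNorm Spor.vecU = 32
    decide
  · show sqNorm (-Spor.vecV - Spor.vecU) = 32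
    decide

theorem mem_McL_iff (g : Co0) :
    (g : Equiv.Perm L) ∈ Spor.McL ↔ g • Spor.leechU = Spor.leechU ∧ g • uu = uu := by
  have h1 : (g : Equiv.Perm L) ∈ Spor.McL ↔
      ((g : Equiv.Perm L) ∈ Co0 ∧ (g : Equiv.Perm L) • Spor.leechV = Spor.leechV) ∧
        (g : Equiv.Perm L) • Spor.leechU = Spor.leechU := Iff.rfl
  rw [h1]
  have h2 : g • uu = -(g • Spor.leechV) := Cfsg.Agent.Lib.Leech.Lat.smul_neg g _
  rw [h2]
  constructor
  · rintro ⟨⟨-, h3⟩, h4⟩
    refine ⟨h4, ?_⟩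
    show -((g : Equiv.Perm L) • Spor.leechV) = _
    rw [h3]
  · rintro ⟨h4, h5⟩
    refine ⟨⟨g.2, ?_⟩, h4⟩
    exact neg_injective h5

theorem le_Co0 : Spor.McL ≤ Co0 := fun _ h => h.1.1

/-- `McL` is the stabiliser of the two packed vectors. -/
theorem equiv_fix : Nonempty (Spor.McL ≃* FixG R) := by
  obtain ⟨t, ht⟩ := exists_to_uv sq_u v_mem
  exact conj_equiv t le_Co0 fun g => by
    rw [mem_McL_iff]
    exact (mem_FixG_two ht g).symm

/-- The second vector. -/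
abbrev ww : L := uu - Spor.leechU

theorem equiv_HH : Nonempty (Spor.McL ≃* Cfsg.Agent.Lib.Leech.SimpleMcL.HH Spor.leechU ww) := by
  refine conj_equiv 1 le_Co0 fun g => ?_
  rw [mem_McL_iff, one_mul, inv_one, mul_one]
  show _ ↔ g • Spor.leechU = Spor.leechU ∧ g • ww = ww
  constructor
  · rintro ⟨h1, h2⟩
    refine ⟨h1, ?_⟩
    show g • (uu - Spor.leechU) = uu - Spor.leechU
    rw [sub_eq_add_neg, Cfsg.Agent.Lib.Leech.Lat.smul_add, h2,
      Cfsg.Agent.Lib.Leech.Lat.smul_neg g Spor.leechU, h1]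
  · rintro ⟨h1, h2⟩
    refine ⟨h1, ?_⟩
    have h3 : uu = ww + Spor.leechU := by simp [ww]
    rw [h3, Cfsg.Agent.Lib.Leech.Lat.smul_add, h1, h2]

theorem isMcL_HH : IsMcL (Cfsg.Agent.Lib.Leech.SimpleMcL.HH Spor.leechU ww) := by
  apply Cfsg.Agent.Lib.Leech.SimpleMcL.isMcL
  · show sqNorm Spor.vecU = 32
    decide
  · show sqNorm (-Spor.vecV - Spor.vecU) = 32
    decide
  · show dotInt Spor.vecU (-Spor.vecV - Spor.vecU) = -8
    decide

/-- `McL` is simple, of the right order. -/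
theorem simple_McL : IsSimpleGroup Spor.McL ∧ Nat.card Spor.McL = 898128000 := by
  obtain ⟨e⟩ := equiv_HH
  have h := isMcL_HH
  have hc : Nat.card Spor.McL = 898128000 := (Nat.card_congr e.toEquiv).trans h.2
  have : Finite Spor.McL := Nat.finite_of_card_ne_zero (by rw [hc]; norm_num)
  have : Nontrivial Spor.McL := by
    rw [← Finite.one_lt_card_iff_nontrivial, hc]
    norm_num
  have := h.1
  exact ⟨IsSimpleGroup.isSimpleGroup_of_surjective e.symm.toMonoidHom e.symm.surjective, hc⟩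

end Cfsg.Agent.Lib.LeechP.McL
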